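import Cfsg.Agent.Lib.AltCent.Two.Sound
import Cfsg.Agent.Lib.AltCent.Hecke.Perfect

/-!
The subgroups of the certificates are not solvable.
-/

set_option autoImplicit false

namespace CfsgLib.AltCent.Two

open Equiv

/-- Words for two elements, and words in these whose commutators give them back. -/
def gWords : List ((List Bool × List Bool) × (List Bool × List Bool) × (List Bool × List Bool)) := [
  (([true], [false]),
    ([false, true, false], [false, true, false, false, true, false, true]),
    ([false, false, true, false, true, false], [false, false, true, false, true, false, true])),
  (([true], [false]),
    ([false, true, false], [false, true, false, false, true, false, true]),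
    ([false, false, true, false, true, false], [false, false, true, false, true, false, true])),
  (([false], [true]),
    ([true, false, true, true, false, true, false, true, true], [true, true, false, true, false, true, true, false, true]),
    ([false, true, false, true, false, true], [true, false, true, false, true, false, true, false])),
  (([true], [false]),
    ([false, true, false, true, false, true], [false, false, true, false, true, false, true, false]),
    ([false, false, true, false, true, false, false, true, false], [false, true, false, false, true, false, true, false, false])),
  (([false], [true]),
    ([true, false, true, true], [true, false, true, true, false]),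
    ([true, true, true], [false, true, false, true, false, true, true, false])),
  (([false], [true]),
    ([true, false, true, true], [true, false, true, true, false]),
    ([true, true, true], [false, true, false, true, false, true, true, false])),
  (([true], [false, true, false]),
    ([true, true], [true, false]),
    ([false, false], [false, true])),
  (([true], [false, true, false]),
    ([true, true], [true, false]),
    ([false, false], [false, true])),
  (([true], [false]),
    ([false, true, false, true, false, true], [false, false, true, false, true, false, true, false]),
    ([false, false, true, false, true, false, false, true, false], [false, true, false, false, true, false, true, false, false])),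
  (([true], [false]),
    ([false, true, false, true, false, true], [false, false, true, false, true, false, true, false]),
    ([false, false, true, false, true, false, false, true, false], [false, true, false, false, true, false, true, false, false])),
  (([false], [true]),
    ([true, false, true, false, true, true, false, true], [true, false, true, true, false, true, false, true]),
    ([false, true, true, false, true], [true, false, true, true, true])),
  (([false], [true]),
    ([true, false, true, false, true, true, false, true], [true, false, true, true, false, true, false, true]),
    ([false, true, true, false, true], [true, false, true, true, true])),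
  (([true], [false, true, false]),
    ([true, true], [true, false]),
    ([false, false], [false, true])),
  (([true], [false, true, false]),
    ([true, true], [true, false]),
    ([false, false], [false, true])),
  (([true], [false, true, false]),
    ([true], [true, true, true, false]),
    ([false], [false, false, false, true])),
  (([true], [false, true, false]),
    ([true], [true, true, true, false]),
    ([false], [false, false, false, true]))]

theorem perfect_facts : ((List.range grps.length).all fun i =>
    let w := gWords.getD i (([], []), ([], []), ([], []))
    let a := perm9 (genCodeA i)
    let b := perm9 (genCodeB i)
    let c := Hecke.evalW a b w.1.1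
    let d := Hecke.evalW a b w.1.2
    decide (Hecke.evalW c d w.2.1.1 * Hecke.evalW c d w.2.1.2 * (Hecke.evalW c d w.2.1.1)⁻¹ *
      (Hecke.evalW c d w.2.1.2)⁻¹ = c) &&
    decide (Hecke.evalW c d w.2.2.1 * Hecke.evalW c d w.2.2.2 * (Hecke.evalW c d w.2.2.1)⁻¹ *
      (Hecke.evalW c d w.2.2.2)⁻¹ = d) &&
    decide (c ≠ 1)) = true := by decide +kernel

theorem evalW_mem {G : Type*} [Group G] {X : Subgroup G} {a b : G} (ha : a ∈ X) (hb : b ∈ X) :
    ∀ w, Hecke.evalW a b w ∈ X := by
  intro w
  induction w with
  | nil => exact one_mem _
  | cons t w ih =>
    refine mul_mem ?_ ih
    cases t
    · exact ha
    · exact hb

theorem not_isSolvable_listed {i : ℕ} (hi : i < grps.length) :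
    ¬ Group.IsSolvable
      (Subgroup.closure ({perm9 (genCodeA i), perm9 (genCodeB i)} : Set (Perm (Fin 9)))) := by
  intro hsol
  have h := perfect_facts
  simp only [List.all_eq_true, List.mem_range, Bool.and_eq_true, decide_eq_true_eq] at h
  obtain ⟨⟨hc, hd⟩, h1⟩ := h i hi
  set w := gWords.getD i (([], []), ([], []), ([], []))
  refine Hecke.not_isSolvable_closure
    (w := ((w.2.1.1, w.2.1.2), (w.2.2.1, w.2.2.2))) hc hd h1 ?_
  haveI := hsol
  refine Group.isSolvable_of_isSolvable_injective (Subgroup.inclusion_injective
    (K := Subgroup.closure ({perm9 (genCodeA i), perm9 (genCodeB i)} : Set (Perm (Fin 9)))) ?_)
  rw [Subgroup.closure_le]
  intro x hx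
  have ha : perm9 (genCodeA i) ∈ Subgroup.closure
      ({perm9 (genCodeA i), perm9 (genCodeB i)} : Set (Perm (Fin 9))) :=
    Subgroup.subset_closure (by simp)
  have hb : perm9 (genCodeB i) ∈ Subgroup.closure
      ({perm9 (genCodeA i), perm9 (genCodeB i)} : Set (Perm (Fin 9))) :=
    Subgroup.subset_closure (by simp)
  rcases hx with rfl | hx
  · exact evalW_mem ha hb _
  · rw [Set.mem_singleton_iff.1 hx]
    exact evalW_mem ha hb _

end CfsgLib.AltCent.Two
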