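import Cfsg.Agent.Lib.AltCent.Two.Code
import Cfsg.Agent.Lib.AltCent.Two.Data

/-!
Checkable certificates showing that, in a module of the alternating group of degree nine in
characteristic two, a vector fixed by a Sylow two-subgroup vanishes when certain non-solvable
subgroups fix nothing.
-/

set_option autoImplicit false

namespace CfsgLib.AltCent.Two

open Equiv

/-- The key with number `j`. -/
def tblAt (j : ℕ) : ℕ := ((tbl.getD (j / 256) []).getD (j / 16 % 16) []).getD (j % 16) 0

/-- The first generator of a listed subgroup. -/
def genCodeA (i : ℕ) : ℕ := (grps.getD i (0, 0)).1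

/-- The second generator of a listed subgroup. -/
def genCodeB (i : ℕ) : ℕ := (grps.getD i (0, 0)).2

/-- A listed orbit is an orbit. -/
def orbCheck (o : ℕ × List ℕ) : Bool :=
  let ks := o.2.map key
  decide (o.1 < grps.length) && o.2.all even9 && decide ks.Nodup &&
  [genCodeA o.1, genCodeB o.1].all fun g =>
    let im := o.2.map fun x => key (comp9 g x)
    decide im.Nodup && im.all fun k => ks.contains k

/-- The accumulated parities of the translated orbits. -/
def accum : List ℕ → List ℕ → ℕ → ℕ
  | x :: xs, j :: js, acc => accum xs js (acc ^^^ 2 ^ j)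
  | _, _, acc => acc

/-- A translated orbit is as stated. -/
def termCheck (t : ℕ × ℕ × List ℕ) : Bool :=
  decide (t.1 < orbs.length) && even9 t.2.1 &&
  decide (t.2.2.length = (orbs.getD t.1 (0, [])).2.length) &&
  ((orbs.getD t.1 (0, [])).2.zip t.2.2).all fun e =>
    decide (e.2 < 3072) && key (comp9 t.2.1 e.1) == tblAt e.2

/-- The sum of the translated orbits of a chunk. -/
def chunkSum (l : List (ℕ × ℕ × List ℕ)) : ℕ :=
  l.foldl (fun acc t => accum (orbs.getD t.1 (0, [])).2 t.2.2 acc) 0

/-- The code of the identity. -/
def idCode : ℕ := Hecke.horner [0, 1, 2, 3, 4, 5, 6, 7, 8]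

/-- The elements generated by the first generators of the Sylow subgroup. -/
def levelList : ℕ → List ℕ
  | 0 => [idCode]
  | k + 1 => levelList k ++ (levelList k).map fun x => comp9 x (uGens.getD k 0)

/-- Each generator normalises the group generated by the earlier ones. -/
def uCheck : Bool :=
  uGens.all even9 && decide (uGens.length = 6) &&
  ((List.range 6).all fun k =>
    (levelList k).contains (comp9 (uGens.getD k 0) (uGens.getD k 0)) &&
    (List.range k).all fun j =>
      (levelList k).any fun l =>
        comp9 (uGens.getD j 0) (uGens.getD k 0) == comp9 (uGens.getD k 0) l) &&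
  treeCodes.all fun t => validCode t && (!even9 t || (levelList 6).contains t)

end CfsgLib.AltCent.Two
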