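import Cfsg.Agent.Lib.AltCent.Two.Cert

/-!
A chunk of the certificate.
-/

set_option autoImplicit false

namespace CfsgLib.AltCent.Two

/-- The parities of a chunk. -/
def chunkVal0 : ℕ :=
  0x100024a4c601a917800800d6253c0040065398b823800c5ca9c81c009b8100102a7e54080081ae4240010b0112800900120a5141ab2864051a141941a8338a31ae806a1d8518824a40aca87c2b233bd107015a588c07f3d0790601140a20006810880a204000040004682cc914d42508d104162eb6e87940e03f928780ad1cc742101e80800108809a033214440000010cd4a0205d11104142256e3d8a454106817c831a22ab669b2f7410800028208b0e608041000010408282c2a10404224c422cf2723668555073a50d283832c8599c40028220a22082a80000001041164a88090042344101d006464e7ca4005001490620004f3151c100054f04f1a703b6f60a9c260b896f376f431e63babae40cb14846b988b30a5018e4001be829702000a5c1bc84e82adedc6d3eb8625ca098450cca29389c2ab479b78a88010804cec0810000800a2404002880086ff02e77112e44e7cc4fc206b5e40ec44afea5fb93748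

set_option maxRecDepth 16000 in
theorem chunk0_ok : chunk0.all termCheck = true := by decide +kernel

set_option maxRecDepth 16000 in
theorem chunk0_sum : chunkSum chunk0 = chunkVal0 := by decide +kernel

end CfsgLib.AltCent.Two
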