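import Cfsg.Agent.Lib.AltCent.Two.Cert

/-!
A chunk of the certificate.
-/

set_option autoImplicit false

namespace CfsgLib.AltCent.Two

/-- The parities of a chunk. -/
def chunkVal1 : ℕ :=
  0x7000e94818d8185000000000a3000000005028a82180144228c81400640ab8ec5f95a887ae64d8ae1281d243c487850ed18000c190281825e205c3421034523e249f01410500020ec824a05140f400800582d2200a16330100114089080010001084054110000002080e24411016980c81080d861a892000d0b19428c1692100c00800421801080400811c14602080000184b22019aaa0a06301800b012d6296008080302a28149040601cc4002800a10481400008801180780240030902200ca19cb0a020600958a420862a888048800902828031002180c038880000014415001920422002c01b2b22222c1808ea09860eb048a492ac3b402ab0ea4900076000682340391901120630b0829408320a7043f382003c8a79c8ec40a4171310b0084c424170002c000a082602800a0483f0a2400220406a00e81cb94057811e4aa01829107014c210d84321174710000040a822e12e00ea00000826086a1c205300518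

set_option maxRecDepth 16000 in
theorem chunk1_ok : chunk1.all termCheck = true := by decide +kernel

set_option maxRecDepth 16000 in
theorem chunk1_sum : chunkSum chunk1 = chunkVal1 := by decide +kernel

end CfsgLib.AltCent.Two
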