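import Cfsg.Agent.Lib.AltCent.Two.Cert

/-!
A chunk of the certificate.
-/

set_option autoImplicit false

namespace CfsgLib.AltCent.Two

/-- The parities of a chunk. -/
def chunkVal2 : ℕ :=
  0x30000000001afdf700000077efb8000004ff7d8000003ffbec0000006e8e0a2400e7eca270235e96028119415582ac08ca0a50028808a06042110045005110880c0b6bff8e1eb25ee8beaa0d6b60c15177800640ae001883381500000cb002000000000158000000043e48eb25a83c88830b10040a066955f000c42dc00321670a000002a80000008a01141c0404400409c01e3849ad008043006847e007000e001912ba066231c860211002000000c90000000400111405da83eaa10a0031493030c852b0e001c00311a7000c82588a8000000000022880422000100001840d897ba26230824118136b02321808aa08ce09b0480222400b402900e000270406f6d041e04698802a0e8c5a82780056e00220f12b80078a09c91d4400038080f1400208003ce821ffea822e0176b03621c0012105800e320438060f0017001f76980039117018e001d85ba107d923fffd4105200e62052800002808a801c28088857e3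

set_option maxRecDepth 16000 in
theorem chunk2_ok : chunk2.all termCheck = true := by decide +kernel

set_option maxRecDepth 16000 in
theorem chunk2_sum : chunkSum chunk2 = chunkVal2 := by decide +kernel

end CfsgLib.AltCent.Two
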