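import Cfsg.Agent.Lib.AltCent.Two.Cert

/-!
A chunk of the certificate.
-/

set_option autoImplicit false

namespace CfsgLib.AltCent.Two

/-- The parities of a chunk. -/
def chunkVal3 : ℕ :=
  0x5000cdecdec34cb0800800a16984004002fccd90020027e56d0008009105b2d8750c102ddec6287a5001c0038385200609800182b308dc40ba00da46b856c887861400a30e06321a6036a22000b7fa0075038e382811d8524102419d0e901268000c0f600800040208584063216a818cd3070baca6673015c08ec28281c71ca088181ec03000008410833a1c2024c00504900c380d16b061622486716b6f239e81e511900ee143c30f351c46000020e30ae1c045089115c52003680307063309d3808a80a6e85dc8d4942c02bc30d8531542800211a029822a1888101041d652016b826224c180d33e0f6e62a400100001012000e981bdf10006ff0eb88000d000b2fe867408ee0f67fff46356b280e6c32b441008880a20191504bffcbae06148eb8bfdc80027213ce736bb94e6923a75afab2e98d272b0a9ad3cc8418905f2f89910018006061500300018f1c3d18a10834608804a0006b5c4206421200520165b2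

set_option maxRecDepth 16000 in
theorem chunk3_ok : chunk3.all termCheck = true := by decide +kernel

set_option maxRecDepth 16000 in
theorem chunk3_sum : chunkSum chunk3 = chunkVal3 := by decide +kernel

end CfsgLib.AltCent.Two
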