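import Mathlib
import Cfsg.Agent.Lib.AltCent.Hecke.Cert

/-!
Codes for permutations of nine points, and an invariant of the cosets of a Sylow two-subgroup of
the alternating group of degree nine: the binary tree on the first eight points.
-/

set_option autoImplicit false

namespace CfsgLib.AltCent.Two

open Equiv

open Hecke (dig horner)

/-- The code of a composite. -/
def comp9 (a b : ℕ) : ℕ := horner ((List.range 9).map fun i => dig a (dig b i))

/-- The map coded by `c`. -/
def img9 (c : ℕ) (i : Fin 9) : Fin 9 := ⟨dig c i % 9, Nat.mod_lt _ (by norm_num)⟩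

/-- A candidate inverse of the map coded by `c`. -/
def pre9 (c : ℕ) (i : Fin 9) : Fin 9 :=
  ⟨((List.range 9).findIdx fun j => dig c j == i.val) % 9, Nat.mod_lt _ (by norm_num)⟩

/-- The permutation with code `c`. -/
def perm9 (c : ℕ) : Perm (Fin 9) :=
  if h : (∀ i, pre9 c (img9 c i) = i) ∧ ∀ i, img9 c (pre9 c i) = i then
    ⟨img9 c, pre9 c, h.1, h.2⟩ else 1

/-- `c` codes `σ`. -/
def Rep9 (c : ℕ) (σ : Perm (Fin 9)) : Prop := ∀ i : Fin 9, dig c i = (σ i).val

/-- `c` codes some permutation. -/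
def validCode (c : ℕ) : Bool := decide (∀ i : Fin 9, dig c i = (perm9 c i).val)

/-- `c` codes an even permutation. -/
def even9 (c : ℕ) : Bool := validCode c && decide (Perm.sign (perm9 c) = 1)

theorem rep9_of_even9 {c : ℕ} (h : even9 c = true) :
    Rep9 c (perm9 c) ∧ Perm.sign (perm9 c) = 1 := by
  rw [even9, validCode, Bool.and_eq_true, decide_eq_true_eq, decide_eq_true_eq] at h
  exact h

theorem Rep9.eq {c : ℕ} {σ τ : Perm (Fin 9)} (h : Rep9 c σ) (h' : Rep9 c τ) : σ = τ :=
  Perm.ext fun i => Fin.ext ((h i).symm.trans (h' i))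

theorem Rep9.mul {a b : ℕ} {σ τ : Perm (Fin 9)} (ha : Rep9 a σ) (hb : Rep9 b τ) :
    Rep9 (comp9 a b) (σ * τ) := fun i => by
  have hlt : ∀ d ∈ (List.range 9).map (fun j => dig a (dig b j)), d < 16 := fun d hd => by
    obtain ⟨j, -, rfl⟩ := List.mem_map.1 hd
    exact Nat.mod_lt _ (by norm_num)
  rw [comp9, Hecke.dig_horner _ hlt, List.getD_eq_getElem _ _ (by simp [i.isLt]), List.getElem_map,
    List.getElem_range, hb i, ha]
  rfl

theorem Rep9.perm {a : ℕ} {σ : Perm (Fin 9)} (h : Rep9 a σ) : perm9 a = σ := by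
  have hi : ∀ i, img9 a i = σ i := fun i => Fin.ext (by
    show dig a i % 9 = _
    rw [h i, Nat.mod_eq_of_lt (σ i).isLt])
  have hp : ∀ i, pre9 a i = σ.symm i := fun i => Fin.ext (by
    show ((List.range 9).findIdx fun j => dig a j == i.val) % 9 = _
    have : ((List.range 9).findIdx fun j => dig a j == i.val) = (σ.symm i).val := by
      rw [List.findIdx_eq (by simp)]
      refine ⟨?_, fun j hj => ?_⟩
      · rw [List.getElem_range, beq_iff_eq, h, Equiv.apply_symm_apply]
      · have hj9 : j < 9 := hj.trans (σ.symm i).isLt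
        rw [List.getElem_range, beq_eq_false_iff_ne, h ⟨j, hj9⟩]
        intro hh
        have := σ.symm_apply_apply ⟨j, hj9⟩
        rw [Fin.ext hh] at this
        exact hj.ne' (congrArg Fin.val this)
    rw [this, Nat.mod_eq_of_lt (σ.symm i).isLt])
  unfold perm9
  rw [dif_pos ⟨fun i => by rw [hi, hp, Equiv.symm_apply_apply],
    fun i => by rw [hp, hi, Equiv.apply_symm_apply]⟩]
  exact Perm.ext hi

/-- An unordered pair of numbers less than `s`. -/
def upair (s a b : ℕ) : ℕ := if a < b then a + s * b else b + s * a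

theorem upair_inj {s a b a' b' : ℕ} (ha : a < s) (hb : b < s) (ha' : a' < s) (hb' : b' < s)
    (h : upair s a b = upair s a' b') : a' = a ∧ b' = b ∨ a' = b ∧ b' = a := by
  have key : ∀ x y x' y' : ℕ, x < s → x' < s → x + s * y = x' + s * y' → x = x' ∧ y = y' := by
    intro x y x' y' hx hx' he
    have h1 : x = x' := by
      have := congrArg (· % s) he
      simpa [Nat.add_mul_mod_self_left, Nat.mod_eq_of_lt hx, Nat.mod_eq_of_lt hx'] using this
    subst h1
    exact ⟨rfl, Nat.eq_of_mul_eq_mul_left (n := s) (Nat.zero_lt_of_lt hx) (Nat.add_left_cancel he)⟩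
  unfold upair at h
  split_ifs at h <;>
    first
    | (obtain ⟨h1, h2⟩ := key _ _ _ _ ha ha' h; omega)
    | (obtain ⟨h1, h2⟩ := key _ _ _ _ ha hb' h; omega)
    | (obtain ⟨h1, h2⟩ := key _ _ _ _ hb ha' h; omega)
    | (obtain ⟨h1, h2⟩ := key _ _ _ _ hb hb' h; omega)

theorem upair_lt {s a b : ℕ} (ha : a < s) (hb : b < s) : upair s a b < s * s := by
  have h : ∀ x y, x < s → y < s → x + s * y < s * s := fun x y hx hy => by
    have := Nat.mul_le_mul_left s (show y + 1 ≤ s by omega)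
    rw [Nat.mul_add, Nat.mul_one] at this
    omega
  unfold upair
  split_ifs
  · exact h a b ha hb
  · exact h b a hb ha

/-- Half of the tree. -/
def quad (a b c d : ℕ) : ℕ := upair 256 (upair 16 a b) (upair 16 c d)

/-- The orders in which the four points of half a tree may be listed. -/
def quadPerms : List (List ℕ) :=
  [[0, 1, 2, 3], [1, 0, 2, 3], [0, 1, 3, 2], [1, 0, 3, 2],
    [2, 3, 0, 1], [3, 2, 0, 1], [2, 3, 1, 0], [3, 2, 1, 0]]

theorem quad_inj {f g : ℕ → ℕ} (hf : ∀ i, f i < 16) (hg : ∀ i, g i < 16)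
    (h : quad (f 0) (f 1) (f 2) (f 3) = quad (g 0) (g 1) (g 2) (g 3)) :
    ∃ t ∈ quadPerms, ∀ i < 4, g i = f (t.getD i 0) := by
  have L := fun a b => upair_lt (s := 16) (hf a) (hf b)
  have L' := fun a b => upair_lt (s := 16) (hg a) (hg b)
  have mk : ∀ t ∈ quadPerms, g 0 = f (t.getD 0 0) → g 1 = f (t.getD 1 0) →
      g 2 = f (t.getD 2 0) → g 3 = f (t.getD 3 0) →
      ∃ t ∈ quadPerms, ∀ i < 4, g i = f (t.getD i 0) := fun t ht h0 h1 h2 h3 =>
    ⟨t, ht, fun i hi => by interval_cases i <;> assumption⟩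
  rcases upair_inj (L 0 1) (L 2 3) (L' 0 1) (L' 2 3) h with ⟨h1, h2⟩ | ⟨h1, h2⟩ <;>
    rcases upair_inj (hf _) (hf _) (hg _) (hg _) h1.symm with ⟨a, b⟩ | ⟨a, b⟩ <;>
      rcases upair_inj (hf _) (hf _) (hg _) (hg _) h2.symm with ⟨c, d⟩ | ⟨c, d⟩
  · exact mk [0, 1, 2, 3] (by simp [quadPerms]) a b c d
  · exact mk [0, 1, 3, 2] (by simp [quadPerms]) a b c d
  · exact mk [1, 0, 2, 3] (by simp [quadPerms]) a b c d
  · exact mk [1, 0, 3, 2] (by simp [quadPerms]) a b c d
  · exact mk [2, 3, 0, 1] (by simp [quadPerms]) a b c d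
  · exact mk [2, 3, 1, 0] (by simp [quadPerms]) a b c d
  · exact mk [3, 2, 0, 1] (by simp [quadPerms]) a b c d
  · exact mk [3, 2, 1, 0] (by simp [quadPerms]) a b c d

/-- The tree of the permutation with code `c`, an invariant of its coset. -/
def key (c : ℕ) : ℕ :=
  upair 65536 (quad (dig c 0) (dig c 1) (dig c 2) (dig c 3))
    (quad (dig c 4) (dig c 5) (dig c 6) (dig c 7)) + 4294967296 * dig c 8

/-- The automorphisms of the tree. -/
def treeCodes : List ℕ :=
  quadPerms.flatMap fun f => quadPerms.flatMap fun g =>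
    [horner (f ++ g.map (· + 4) ++ [8]), horner (g.map (· + 4) ++ f ++ [8])]

theorem key_inj {c c' : ℕ} (h : key c = key c') :
    ∃ t ∈ treeCodes, ∀ i < 9, dig c' i = dig c (dig t i) := by
  have hd : ∀ x i, dig x i < 16 := fun x i => Nat.mod_lt _ (by norm_num)
  have hq : ∀ x a b e d, quad (dig x a) (dig x b) (dig x e) (dig x d) < 65536 := fun x a b e d =>
    upair_lt (upair_lt (hd _ _) (hd _ _)) (upair_lt (hd _ _) (hd _ _))
  set U := upair 65536 (quad (dig c 0) (dig c 1) (dig c 2) (dig c 3))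
    (quad (dig c 4) (dig c 5) (dig c 6) (dig c 7)) with hU
  set U' := upair 65536 (quad (dig c' 0) (dig c' 1) (dig c' 2) (dig c' 3))
    (quad (dig c' 4) (dig c' 5) (dig c' 6) (dig c' 7)) with hU'
  have b1 : U < 65536 * 65536 := upair_lt (hq _ _ _ _ _) (hq _ _ _ _ _)
  have b2 : U' < 65536 * 65536 := upair_lt (hq _ _ _ _ _) (hq _ _ _ _ _)
  have h8 : dig c 8 = dig c' 8 ∧ U = U' := by
    unfold key at h
    rw [← hU, ← hU'] at h
    omega
  obtain ⟨h8, hUU⟩ := h8
  rcases upair_inj (hq _ _ _ _ _) (hq _ _ _ _ _) (hq _ _ _ _ _) (hq _ _ _ _ _) hUU with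
    ⟨h1, h2⟩ | ⟨h1, h2⟩
  · obtain ⟨f, hf, ef⟩ := quad_inj (f := dig c) (g := dig c') (hd c) (hd c') h1.symm
    obtain ⟨g, hg, eg⟩ := quad_inj (f := fun i => dig c (i + 4)) (g := fun i => dig c' (i + 4))
      (fun i => hd c _) (fun i => hd c' _) h2.symm
    refine ⟨_, List.mem_flatMap.2 ⟨f, hf, List.mem_flatMap.2 ⟨g, hg, List.mem_cons_self⟩⟩,
      fun i hi => ?_⟩
    have e0 := ef 0 (by norm_num); have e1 := ef 1 (by norm_num)
    have e2 := ef 2 (by norm_num); have e3 := ef 3 (by norm_num)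
    have e4 := eg 0 (by norm_num); have e5 := eg 1 (by norm_num)
    have e6 := eg 2 (by norm_num); have e7 := eg 3 (by norm_num)
    fin_cases hf <;> fin_cases hg <;> interval_cases i <;>
      first | exact e0 | exact e1 | exact e2 | exact e3 | exact e4 | exact e5 | exact e6 |
        exact e7 | exact h8.symm
  · obtain ⟨g, hg, eg⟩ := quad_inj (f := fun i => dig c (i + 4)) (g := dig c')
      (fun i => hd c _) (hd c') h1.symm
    obtain ⟨f, hf, ef⟩ := quad_inj (f := dig c) (g := fun i => dig c' (i + 4))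
      (hd c) (fun i => hd c' _) h2.symm
    refine ⟨_, List.mem_flatMap.2 ⟨f, hf, List.mem_flatMap.2 ⟨g, hg,
      List.mem_cons_of_mem _ List.mem_cons_self⟩⟩, fun i hi => ?_⟩
    have e0 := eg 0 (by norm_num); have e1 := eg 1 (by norm_num)
    have e2 := eg 2 (by norm_num); have e3 := eg 3 (by norm_num)
    have e4 := ef 0 (by norm_num); have e5 := ef 1 (by norm_num)
    have e6 := ef 2 (by norm_num); have e7 := ef 3 (by norm_num)
    fin_cases hf <;> fin_cases hg <;> interval_cases i <;>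
      first | exact e0 | exact e1 | exact e2 | exact e3 | exact e4 | exact e5 | exact e6 |
        exact e7 | exact h8.symm

end CfsgLib.AltCent.Two
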