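import Cfsg.Agent.Lib.AltCent.Two.Chunk0
import Cfsg.Agent.Lib.AltCent.Two.Chunk1
import Cfsg.Agent.Lib.AltCent.Two.Chunk2
import Cfsg.Agent.Lib.AltCent.Two.Chunk3

/-!
The data pass the checks.
-/

set_option autoImplicit false

namespace CfsgLib.AltCent.Two

open Equiv

theorem grpCheck_ok : (grps.all fun g => even9 g.1 && even9 g.2) = true := by decide +kernel

theorem orbCheck_ok : orbs.all orbCheck = true := by decide +kernel

theorem uCheck_ok : uCheck = true := by decide +kernel

theorem base_ok : even9 idCode = true ∧ perm9 idCode = 1 ∧ key idCode = tblAt baseIdx ∧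
    baseIdx < 3072 := by decide +kernel

theorem chunks_ok : ∀ l ∈ chunks, l.all termCheck = true := by
  simp only [chunks, List.forall_mem_cons, List.not_mem_nil, false_implies, implies_true, and_true]
  exact ⟨chunk0_ok, chunk1_ok, chunk2_ok, chunk3_ok⟩

theorem chunks_sum : (chunks.map chunkSum).foldr (· ^^^ ·) 0 = 2 ^ baseIdx := by
  simp only [chunks, List.map_cons, List.map_nil, List.foldr_cons, List.foldr_nil, chunk0_sum, chunk1_sum, chunk2_sum, chunk3_sum]
  decide +kernel

end CfsgLib.AltCent.Two
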