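import Cfsg.Agent.Lib.AltCent.Two.DataOk

/-!
Soundness of the certificates for the prime two.
-/

set_option autoImplicit false

namespace CfsgLib.AltCent.Two

open Equiv Finset

/-- A module of the alternating group of degree nine in characteristic two. -/
structure AMod (A : Type*) [AddCommGroup A] where
  /-- The action. -/
  ρ : Perm (Fin 9) → A →+ A
  one : ∀ a, ρ 1 a = a
  mul : ∀ σ τ, Perm.sign σ = 1 → Perm.sign τ = 1 → ∀ a, ρ (σ * τ) a = ρ σ (ρ τ a)
  two : ∀ a : A, a + a = 0

variable {A : Type*} [AddCommGroup A]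

/-- The listed subgroups fix nothing. -/
def NoFix (M : AMod A) : Prop :=
  ∀ i < grps.length, ∀ a : A, M.ρ (perm9 (genCodeA i)) a = a →
    M.ρ (perm9 (genCodeB i)) a = a → a = 0

theorem getD_mem {β : Type*} (l : List β) {i : ℕ} (d : β) (h : i < l.length) :
    l.getD i d ∈ l := by
  rw [List.getD_eq_getElem _ _ h]
  exact List.getElem_mem h

theorem idCode_rep : even9 idCode = true ∧ perm9 idCode = 1 ∧ key idCode = tblAt baseIdx ∧
    baseIdx < 3072 := base_ok

theorem mul_code {a b : ℕ} (ha : even9 a = true) (hb : even9 b = true) :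
    Rep9 (comp9 a b) (perm9 a * perm9 b) ∧ even9 (comp9 a b) = true ∧
      perm9 (comp9 a b) = perm9 a * perm9 b := by
  have h := (rep9_of_even9 ha).1.mul (rep9_of_even9 hb).1
  refine ⟨h, ?_, h.perm⟩
  rw [even9, validCode, Bool.and_eq_true, decide_eq_true_eq, decide_eq_true_eq, h.perm,
    Perm.sign_mul, (rep9_of_even9 ha).2, (rep9_of_even9 hb).2, one_mul]
  exact ⟨h, rfl⟩

theorem uSpec : (∀ k < 6, even9 (uGens.getD k 0) = true ∧
      comp9 (uGens.getD k 0) (uGens.getD k 0) ∈ levelList k ∧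
      ∀ j < k, ∃ l ∈ levelList k,
        comp9 (uGens.getD j 0) (uGens.getD k 0) = comp9 (uGens.getD k 0) l) ∧
    ∀ t ∈ treeCodes, validCode t = true ∧ (even9 t = true → t ∈ levelList 6) := by
  have h := uCheck_ok
  simp only [uCheck, Bool.and_eq_true, List.all_eq_true, decide_eq_true_eq, List.mem_range,
    List.contains_iff_mem, List.any_eq_true, beq_iff_eq, Bool.or_eq_true,
    Bool.not_eq_eq_eq_not, Bool.not_true] at h
  obtain ⟨⟨⟨he, hl⟩, hk⟩, ht⟩ := h
  refine ⟨fun k hk6 => ⟨he _ (getD_mem _ _ (hl.symm ▸ hk6)), (hk k hk6).1, (hk k hk6).2⟩,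
    fun t htm => ⟨(ht t htm).1, fun hev => ?_⟩⟩
  rcases (ht t htm).2 with h' | h'
  · rw [hev] at h'; exact absurd h' (by decide)
  · exact h'

/-- Fixed by the first generators, hence by what they generate. -/
theorem fixed_level (M : AMod A) {v : A} :
    ∀ k ≤ 6, (∀ j < k, M.ρ (perm9 (uGens.getD j 0)) v = v) →
      ∀ l ∈ levelList k, even9 l = true ∧ M.ρ (perm9 l) v = v := by
  intro k
  induction k with
  | zero =>
    intro _ _ l hl
    rw [levelList, List.mem_singleton] at hl
    subst hl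
    exact ⟨idCode_rep.1, by rw [idCode_rep.2.1, M.one]⟩
  | succ k ih =>
    intro hk hfix l hl
    have ih' := ih (by omega) fun j hj => hfix j (by omega)
    rw [levelList, List.mem_append, List.mem_map] at hl
    rcases hl with hl | ⟨x, hx, rfl⟩
    · exact ih' l hl
    · obtain ⟨hxe, hxv⟩ := ih' x hx
      have hu := (uSpec.1 k (by omega)).1
      obtain ⟨-, h2, h3⟩ := mul_code hxe hu
      exact ⟨h2, by rw [h3, M.mul _ _ (rep9_of_even9 hxe).2 (rep9_of_even9 hu).2,
        hfix k (by omega), hxv]⟩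

/-- A fixed vector of the Sylow subgroup. -/
theorem exists_fixed (M : AMod A) (hA : ∃ a : A, a ≠ 0) :
    ∀ k ≤ 6, ∃ v : A, v ≠ 0 ∧ ∀ j < k, M.ρ (perm9 (uGens.getD j 0)) v = v := by
  intro k
  induction k with
  | zero =>
    obtain ⟨a, ha⟩ := hA
    exact fun _ => ⟨a, ha, fun j hj => absurd hj (by omega)⟩
  | succ k ih =>
    intro hk
    obtain ⟨v, hv0, hv⟩ := ih (by omega)
    set u := perm9 (uGens.getD k 0) with hu
    have hlev := fixed_level M k (by omega) hv
    obtain ⟨hue, hsq, hnorm⟩ := uSpec.1 k (by omega)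
    have hus := (rep9_of_even9 hue).2
    have hinv : M.ρ u (M.ρ u v) = v := by
      rw [← M.mul _ _ hus hus, ← (mul_code hue hue).2.2]
      exact (hlev _ hsq).2
    have hcomm : ∀ j < k, M.ρ (perm9 (uGens.getD j 0)) (M.ρ u v) = M.ρ u v := by
      intro j hj
      obtain ⟨l, hl, he⟩ := hnorm j hj
      have hje := (uSpec.1 j (by omega)).1
      obtain ⟨hle, hlv⟩ := hlev l hl
      rw [← M.mul _ _ (rep9_of_even9 hje).2 hus, ← (mul_code hje hue).2.2, he,
        (mul_code hue hle).2.2, M.mul _ _ hus (rep9_of_even9 hle).2, hlv]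
    by_cases hfix : M.ρ u v = v
    · exact ⟨v, hv0, fun j hj => by
        rcases Nat.lt_succ_iff_lt_or_eq.1 hj with h | rfl
        exacts [hv j h, hfix]⟩
    · refine ⟨v + M.ρ u v, fun h => hfix ?_, fun j hj => ?_⟩
      · rw [← add_zero (M.ρ u v), ← M.two v, ← add_assoc, add_comm (M.ρ u v) v, h, zero_add]
      · rcases Nat.lt_succ_iff_lt_or_eq.1 hj with h | rfl
        · rw [map_add, hv j h, hcomm j h]
        · rw [map_add, hinv, add_comm]

variable (M : AMod A) (v : A)

open scoped Classical in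
/-- The translate of `v` attached to a key. -/
noncomputable def valK (k : ℕ) : A :=
  if h : ∃ y, even9 y = true ∧ key y = k then M.ρ (perm9 h.choose) v else 0

variable {M v}

theorem valK_key (hv : ∀ l ∈ levelList 6, M.ρ (perm9 l) v = v) {y : ℕ} (hy : even9 y = true) :
    valK M v (key y) = M.ρ (perm9 y) v := by
  classical
  have hex : ∃ z, even9 z = true ∧ key z = key y := ⟨y, hy, rfl⟩
  rw [valK, dif_pos hex]
  obtain ⟨hz, hzk⟩ := hex.choose_spec
  obtain ⟨t, ht, hdig⟩ := key_inj hzk.symm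
  obtain ⟨htv, hte⟩ := uSpec.2 t ht
  rw [validCode, decide_eq_true_eq] at htv
  have hy' := rep9_of_even9 hy
  have hz' := rep9_of_even9 hz
  have heq : perm9 hex.choose = perm9 y * perm9 t := by
    refine Perm.ext fun i => Fin.ext ?_
    rw [← hz'.1 i, hdig i i.isLt, htv i, hy'.1, Perm.mul_apply]
  have hts : Perm.sign (perm9 t) = 1 := by
    have := congrArg Perm.sign heq
    rw [Perm.sign_mul, hz'.2, hy'.2, one_mul] at this
    exact this.symm
  have htev : even9 t = true := by
    rw [even9, validCode, Bool.and_eq_true, decide_eq_true_eq, decide_eq_true_eq]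
    exact ⟨htv, hts⟩
  rw [heq, M.mul _ _ hy'.2 hts, hv t (hte htev)]

variable (M v)

/-- The vector attached to a set of cosets. -/
noncomputable def Phi (N : ℕ) : A :=
  ∑ j ∈ range 3072, if N.testBit j then valK M v (tblAt j) else 0

theorem Phi_zero : Phi M v 0 = 0 := by
  simp [Phi]

theorem Phi_xor (a b : ℕ) : Phi M v (a ^^^ b) = Phi M v a + Phi M v b := by
  rw [Phi, Phi, Phi, ← sum_add_distrib]
  refine sum_congr rfl fun j _ => ?_
  rw [Nat.testBit_xor]
  cases a.testBit j <;> cases b.testBit j <;> simp [M.two]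

theorem Phi_pow {j : ℕ} (hj : j < 3072) : Phi M v (2 ^ j) = valK M v (tblAt j) := by
  rw [Phi, sum_eq_single_of_mem j (mem_range.2 hj)]
  · rw [if_pos (Nat.testBit_two_pow_self)]
  · intro i _ hij
    rw [if_neg (by rw [Nat.testBit_two_pow_of_ne hij.symm]; exact Bool.false_ne_true)]

theorem Phi_accum : ∀ xs js : List ℕ, xs.length = js.length → (∀ j ∈ js, j < 3072) → ∀ acc,
    Phi M v (accum xs js acc) = Phi M v acc + (js.map fun j => valK M v (tblAt j)).sum := by
  intro xs
  induction xs with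
  | nil =>
    intro js hl _ acc
    obtain rfl : js = [] := List.eq_nil_of_length_eq_zero hl.symm
    simp [accum]
  | cons x xs ih =>
    intro js hl hj acc
    cases js with
    | nil => simp at hl
    | cons j js =>
      rw [accum, ih js (by simpa using hl) (fun i hi => hj i (List.mem_cons_of_mem _ hi)),
        Phi_xor, Phi_pow M v (hj j List.mem_cons_self), List.map_cons, List.sum_cons, add_assoc]

variable {M v}

theorem orbit_sum (hM : NoFix M) (hv : ∀ l ∈ levelList 6, M.ρ (perm9 l) v = v) {o : ℕ × List ℕ}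
    (ho : o ∈ orbs) : (o.2.map fun x => M.ρ (perm9 x) v).sum = 0 := by
  have h := List.all_eq_true.1 orbCheck_ok o ho
  simp only [orbCheck, Bool.and_eq_true, decide_eq_true_eq, List.all_eq_true,
    List.contains_iff_mem] at h
  obtain ⟨⟨⟨hlt, hev⟩, hnd⟩, hgen⟩ := h
  have hg := List.all_eq_true.1 grpCheck_ok _ (getD_mem grps (0, 0) hlt)
  simp only [Bool.and_eq_true] at hg
  have hfix : ∀ g, g ∈ [genCodeA o.1, genCodeB o.1] → even9 g = true →
      M.ρ (perm9 g) ((o.2.map fun x => M.ρ (perm9 x) v).sum) =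
        (o.2.map fun x => M.ρ (perm9 x) v).sum := by
    intro g hgm hge
    obtain ⟨hn, hsub⟩ := hgen g hgm
    have hperm : (o.2.map fun x => key (comp9 g x)).Perm (o.2.map key) :=
      (hn.subperm fun k hk => hsub k hk).perm_of_length_le (by simp)
    rw [map_list_sum, List.map_map]
    have e1 : ∀ x ∈ o.2, (M.ρ (perm9 g) ∘ fun x => M.ρ (perm9 x) v) x =
        (valK M v ∘ fun x => key (comp9 g x)) x := fun x hx => by
      obtain ⟨-, h2, h3⟩ := mul_code hge (hev x hx)
      show M.ρ _ (M.ρ _ v) = valK M v _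
      rw [valK_key hv h2, h3, M.mul _ _ (rep9_of_even9 hge).2 (rep9_of_even9 (hev x hx)).2]
    have e2 : ∀ x ∈ o.2, (valK M v ∘ key) x = M.ρ (perm9 x) v := fun x hx =>
      valK_key hv (hev x hx)
    rw [List.map_congr_left e1, ← List.map_map, (hperm.map _).sum_eq, List.map_map,
      List.map_congr_left e2]
  exact hM o.1 hlt _ (hfix _ List.mem_cons_self hg.1)
    (hfix _ (List.mem_cons_of_mem _ List.mem_cons_self) hg.2)

theorem term_zero (hM : NoFix M) (hv : ∀ l ∈ levelList 6, M.ρ (perm9 l) v = v)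
    {t : ℕ × ℕ × List ℕ} (ht : termCheck t = true) :
    (∀ j ∈ t.2.2, j < 3072) ∧ (orbs.getD t.1 (0, [])).2.length = t.2.2.length ∧
      (t.2.2.map fun j => valK M v (tblAt j)).sum = 0 := by
  simp only [termCheck, Bool.and_eq_true, decide_eq_true_eq, List.all_eq_true, beq_iff_eq] at ht
  obtain ⟨⟨⟨hlt, hh⟩, hlen⟩, hzip⟩ := ht
  set o := orbs.getD t.1 (0, []) with ho
  have hom : o ∈ orbs := getD_mem _ _ hlt
  have hev : ∀ x ∈ o.2, even9 x = true := by
    have h := List.all_eq_true.1 orbCheck_ok o hom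
    simp only [orbCheck, Bool.and_eq_true, List.all_eq_true] at h
    exact h.1.1.2
  have hj : ∀ j ∈ t.2.2, j < 3072 := by
    intro j hj
    obtain ⟨i, hi, rfl⟩ := List.getElem_of_mem hj
    exact (hzip (o.2[i]'(hlen ▸ hi), t.2.2[i]) (List.mem_iff_getElem.2 ⟨i, by simp only [List.length_zip]; omega,
      by simp [List.getElem_zip]⟩)).1
  refine ⟨hj, hlen.symm, ?_⟩
  have heq : t.2.2.map (fun j => valK M v (tblAt j)) =
      (o.2.map fun x => M.ρ (perm9 x) v).map (M.ρ (perm9 t.2.1)) := by
    refine List.ext_getElem (by simp [hlen]) fun i h1 h2 => ?_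
    rw [List.length_map] at h1
    have hx : i < o.2.length := hlen ▸ h1
    have hz := (hzip (o.2[i], t.2.2[i]) (List.mem_iff_getElem.2 ⟨i, by simp only [List.length_zip]; omega,
      by simp [List.getElem_zip]⟩)).2
    have hxe := hev _ (List.getElem_mem hx)
    obtain ⟨-, h2', h3⟩ := mul_code hh hxe
    simp only [List.getElem_map]
    rw [← hz, valK_key hv h2', h3, M.mul _ _ (rep9_of_even9 hh).2 (rep9_of_even9 hxe).2]
  rw [heq, ← map_list_sum, orbit_sum hM hv hom, map_zero]

theorem chunk_zero (hM : NoFix M) (hv : ∀ l ∈ levelList 6, M.ρ (perm9 l) v = v)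
    {l : List (ℕ × ℕ × List ℕ)} (hl : l.all termCheck = true) :
    Phi M v (chunkSum l) = 0 := by
  rw [List.all_eq_true] at hl
  suffices h : ∀ (l : List (ℕ × ℕ × List ℕ)), (∀ t ∈ l, termCheck t = true) → ∀ acc,
      Phi M v (l.foldl (fun acc t => accum (orbs.getD t.1 (0, [])).2 t.2.2 acc) acc) =
        Phi M v acc by
    rw [chunkSum, h l hl, Phi_zero]
  intro l
  induction l with
  | nil => intro _ acc; rfl
  | cons t l ih =>
    intro hl acc
    obtain ⟨hj, hlen, hs⟩ := term_zero hM hv (hl t List.mem_cons_self)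
    rw [List.foldl_cons, ih (fun s hs => hl s (List.mem_cons_of_mem _ hs)),
      Phi_accum M v _ _ hlen hj, hs, add_zero]

/-- The module is zero when the chunks sum to the base coset. -/
theorem universal (hM : NoFix M) (a : A) : a = 0 := by
  by_contra ha
  obtain ⟨w, hw0, hw⟩ := exists_fixed M ⟨a, ha⟩ 6 le_rfl
  have hlev : ∀ l ∈ levelList 6, M.ρ (perm9 l) w = w :=
    fun l hl => (fixed_level M 6 le_rfl hw l hl).2
  obtain ⟨he, h1, hk, hlt⟩ := idCode_rep
  have h0 : Phi M w (2 ^ baseIdx) = w := by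
    rw [Phi_pow M w hlt, ← hk, valK_key hlev he, h1, M.one]
  apply hw0
  rw [← h0, ← chunks_sum]
  have : ∀ L : List (List (ℕ × ℕ × List ℕ)), (∀ l ∈ L, l.all termCheck = true) →
      Phi M w ((L.map chunkSum).foldr (· ^^^ ·) 0) = 0 := by
    intro L
    induction L with
    | nil => intro _; exact Phi_zero M w
    | cons l L ih =>
      intro hL
      rw [List.map_cons, List.foldr_cons, Phi_xor, chunk_zero hM hlev (hL l List.mem_cons_self),
        ih fun x hx => hL x (List.mem_cons_of_mem _ hx), add_zero]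
  exact this chunks chunks_ok

end CfsgLib.AltCent.Two
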